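import Mathlib.RingTheory.DiscreteValuationRing.Basic
import Mathlib.RingTheory.Kaehler.Basic
import Mathlib.RingTheory.Localization.FractionRing
import Mathlib.Algebra.Polynomial.Derivation
import Mathlib.Algebra.CharP.Lemmas
import Mathlib.Algebra.CharP.Frobenius
import Mathlib.Algebra.Polynomial.Div
import Mathlib.LinearAlgebra.FiniteDimensional.Lemmas
import Mathlib.LinearAlgebra.Dimension.Finite

/-!
# A uniformizer as `p`-basis of a discrete valuation ring with `[K : K^p] = p`
-/

universe u

open Polynomial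

namespace GrothLib.DvrPBasis

variable {p : ℕ} [hp : Fact p.Prime] {R : Type u} [CommRing R] [IsDomain R] [IsDiscreteValuationRing R] {π : R}

theorem dvd_of_pow_dvd_sum (hπ : Irreducible π) (a : Fin p → R)
    (h : π ^ p ∣ ∑ i : Fin p, π ^ (i : ℕ) * a i ^ p) (i : Fin p) : π ∣ a i := by
  induction i using WellFoundedLT.induction with
  | _ j ih =>
    have h1 : π ^ ((j : ℕ) + 1) ∣ ∑ i ∈ Finset.univ.erase j, π ^ (i : ℕ) * a i ^ p := by
      refine Finset.dvd_sum fun i hi => ?_
      rcases lt_trichotomy i j with hlt | heq | hgt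
      · refine Dvd.dvd.mul_left ?_ _
        exact (pow_dvd_pow π (Nat.succ_le_of_lt j.2)).trans (pow_dvd_pow_of_dvd (ih i hlt) p)
      · exact absurd heq (Finset.ne_of_mem_erase hi)
      · exact (pow_dvd_pow π (Nat.succ_le_of_lt hgt)).mul_right _
    have h2 : π ^ ((j : ℕ) + 1) ∣ π ^ (j : ℕ) * a j ^ p := by
      refine (dvd_add_left h1).mp ?_
      rw [Finset.add_sum_erase _ (fun i => π ^ ((i : Fin p) : ℕ) * a i ^ p) (Finset.mem_univ j)]
      exact (pow_dvd_pow π (Nat.succ_le_of_lt j.2)).trans h
    rw [pow_succ, mul_dvd_mul_iff_left (pow_ne_zero _ hπ.ne_zero)] at h2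
    exact hπ.prime.dvd_of_dvd_pow h2

theorem pow_dvd_of_pow_dvd_sum (hπ : Irreducible π) (m : ℕ) (a : Fin p → R)
    (h : π ^ (p * m) ∣ ∑ i : Fin p, π ^ (i : ℕ) * a i ^ p) (i : Fin p) : π ^ m ∣ a i := by
  induction m generalizing a with
  | zero => simp
  | succ m ih =>
    have hd := dvd_of_pow_dvd_sum hπ a ((pow_dvd_pow π (Nat.le_mul_of_pos_right p m.succ_pos)).trans h)
    choose b hb using hd
    have hsum : ∑ i : Fin p, π ^ (i : ℕ) * a i ^ p = π ^ p * ∑ i : Fin p, π ^ (i : ℕ) * b i ^ p := by
      rw [Finset.mul_sum]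
      exact Finset.sum_congr rfl fun i _ => by rw [hb, mul_pow]; ring
    rw [hsum, Nat.mul_succ, add_comm, pow_add, mul_dvd_mul_iff_left (pow_ne_zero _ hπ.ne_zero)] at h
    rw [hb, pow_succ']
    exact mul_dvd_mul_left _ (ih b h)

theorem eq_zero_of_sum_eq_zero (hπ : Irreducible π) (a : Fin p → R)
    (h : ∑ i : Fin p, π ^ (i : ℕ) * a i ^ p = 0) (i : Fin p) : a i = 0 := by
  by_contra hne
  obtain ⟨n, hn⟩ := IsDiscreteValuationRing.associated_pow_irreducible hne hπ
  have := (pow_dvd_of_pow_dvd_sum hπ (n + 1) a (h ▸ dvd_zero _) i).trans hn.dvd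
  rw [pow_succ] at this
  exact hπ.not_isUnit (isUnit_of_dvd_one ((mul_dvd_mul_iff_left (pow_ne_zero n hπ.ne_zero)).mp
    (by rwa [mul_one])))

variable [CharP R p]

theorem exists_coeff (hπ : Irreducible π) {K : Type u} [Field K] [Algebra R K] [IsFractionRing R K]
    (kp : Subfield K) (hkp : ∀ x : K, x ∈ kp ↔ ∃ y : K, y ^ p = x) (hdeg : Module.finrank kp K = p) (r : R) :
    ∃ c : Fin p → R, r = ∑ i : Fin p, π ^ (i : ℕ) * c i ^ p := by
  classical
  have hinj := IsFractionRing.injective R K
  have hli : LinearIndependent kp fun i : Fin p => algebraMap R K π ^ (i : ℕ) := by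
    rw [Fintype.linearIndependent_iff]
    intro g hg
    choose y hy using fun i => (hkp (g i)).mp (g i).2
    obtain ⟨b, hb⟩ := IsLocalization.exist_integer_multiples_of_finite (nonZeroDivisors R) y
    choose a ha using hb
    have ha' : ∀ i, algebraMap R K (a i) = algebraMap R K b * y i := fun i => (ha i).trans (Algebra.smul_def _ _)
    have h0 : ∑ i : Fin p, π ^ (i : ℕ) * a i ^ p = 0 := by
      apply hinj
      rw [map_zero, map_sum]
      calc ∑ i : Fin p, algebraMap R K (π ^ (i : ℕ) * a i ^ p)
          = algebraMap R K b ^ p * ∑ i : Fin p, g i • algebraMap R K π ^ (i : ℕ) := by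
            rw [Finset.mul_sum]
            refine Finset.sum_congr rfl fun i _ => ?_
            rw [map_mul, map_pow, map_pow, ha', mul_pow, hy, Subfield.smul_def, smul_eq_mul]
            ring
        _ = 0 := by rw [hg, mul_zero]
    intro i
    have hb0 : algebraMap R K b ≠ 0 := (map_ne_zero_iff _ hinj).mpr (nonZeroDivisors.ne_zero b.2)
    have h1 := ha' i
    rw [eq_zero_of_sum_eq_zero hπ a h0 i, map_zero] at h1
    have hy0 : y i = 0 := (mul_eq_zero.mp h1.symm).resolve_left hb0
    refine Subtype.ext ?_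
    rw [← hy, hy0, zero_pow hp.out.ne_zero]
    rfl
  haveI : FiniteDimensional kp K := FiniteDimensional.of_finrank_pos (hdeg.symm ▸ hp.out.pos)
  have htop : Submodule.span kp (Set.range fun i : Fin p => algebraMap R K π ^ (i : ℕ)) = ⊤ :=
    hli.span_eq_top_of_card_eq_finrank' (by rw [Fintype.card_fin, hdeg])
  obtain ⟨g, hg⟩ := (Submodule.mem_span_range_iff_exists_fun kp).mp (htop ▸ Submodule.mem_top (x := algebraMap R K r))
  choose y hy using fun i => (hkp (g i)).mp (g i).2
  obtain ⟨b, hb⟩ := IsLocalization.exist_integer_multiples_of_finite (nonZeroDivisors R) y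
  choose a ha using hb
  have ha' : ∀ i, algebraMap R K (a i) = algebraMap R K b * y i := fun i => (ha i).trans (Algebra.smul_def _ _)
  have h0 : (b : R) ^ p * r = ∑ i : Fin p, π ^ (i : ℕ) * a i ^ p := by
    apply hinj
    rw [map_mul, ← hg, Finset.mul_sum, map_sum]
    refine Finset.sum_congr rfl fun i _ => ?_
    rw [map_mul, map_pow, map_pow, map_pow, ha', mul_pow, hy, Subfield.smul_def, smul_eq_mul]
    ring
  obtain ⟨m, hm⟩ := IsDiscreteValuationRing.associated_pow_irreducible (nonZeroDivisors.ne_zero b.2) hπ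
  have hdvd : ∀ i, (b : R) ∣ a i := fun i => hm.dvd.trans (pow_dvd_of_pow_dvd_sum hπ m a
    (h0 ▸ ((pow_mul π m p ▸ mul_comm m p ▸ dvd_rfl : π ^ (p * m) ∣ (π ^ m) ^ p).trans
      (pow_dvd_pow_of_dvd hm.symm.dvd p)).mul_right r) i)
  choose c hc using hdvd
  refine ⟨c, mul_left_cancel₀ (pow_ne_zero p (nonZeroDivisors.ne_zero b.2)) (h0.trans ?_)⟩
  rw [Finset.mul_sum]
  refine Finset.sum_congr rfl fun i _ => ?_
  rw [hc, mul_pow]
  ring

variable (p) in
/-- Evaluation at `π` of polynomials with coefficients acting through Frobenius. -/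
noncomputable def ev (π : R) : R[X] →+* R := Polynomial.eval₂RingHom (frobenius R p) π

theorem ev_sum (c : Fin p → R) : ev p π (∑ i : Fin p, C (c i) * X ^ (i : ℕ)) = ∑ i : Fin p, π ^ (i : ℕ) * c i ^ p := by
  rw [map_sum]
  refine Finset.sum_congr rfl fun i _ => ?_
  show eval₂ (frobenius R p) π (C (c i) * X ^ (i : ℕ)) = _
  rw [eval₂_mul, eval₂_C, eval₂_X_pow, frobenius_def, mul_comm]

theorem ev_derivative_eq_zero (hπ : Irreducible π) {f : R[X]} (hf : ev p π f = 0) : ev p π (derivative f) = 0 := by
  have hm : (X ^ p - C π : R[X]).Monic := monic_X_pow_sub_C π hp.out.ne_zero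
  have hm0 : ev p π (X ^ p - C π) = 0 := by simp [ev, frobenius_def]
  have hr : ev p π (f %ₘ (X ^ p - C π)) = 0 := by
    rw [modByMonic_eq_sub_mul_div, map_sub, map_mul, hm0, zero_mul, sub_zero, hf]
  have hr0 : f %ₘ (X ^ p - C π) = 0 := by
    set g := f %ₘ (X ^ p - C π) with hg
    have hdeg : g.degree < p := by
      have := degree_modByMonic_lt f hm
      rwa [degree_X_pow_sub_C hp.out.pos] at this
    have hsum : g = ∑ i : Fin p, C (g.coeff i) * X ^ (i : ℕ) := by
      ext n
      simp only [finsetSum_coeff, coeff_C_mul_X_pow]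
      by_cases hn : n < p
      · rw [Finset.sum_eq_single ⟨n, hn⟩ (fun i _ hi => if_neg fun e => hi (Fin.ext e.symm))
          (fun h => absurd (Finset.mem_univ _) h), if_pos rfl]
      · rw [Finset.sum_eq_zero fun (i : Fin p) _ => if_neg fun e : n = (i : ℕ) => hn (e ▸ i.2)]
        exact coeff_eq_zero_of_degree_lt (hdeg.trans_le (WithBot.coe_le_coe.mpr (not_lt.mp hn)))
    rw [hsum, ev_sum] at hr
    rw [hsum, Finset.sum_eq_zero fun i _ => by rw [eq_zero_of_sum_eq_zero hπ _ hr i, map_zero, zero_mul]]
  have := modByMonic_add_div f (X ^ p - C π)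
  rw [hr0, zero_add] at this
  rw [← this, derivative_mul, map_add, map_mul, map_mul, hm0, zero_mul, add_zero]
  simp [ev, derivative_X_pow]

variable (p) in
/-- The derivation `d/dπ`. -/
noncomputable def der (hπ : Irreducible π) (s : R → R[X]) (hs : ∀ r, ev p π (s r) = r) : Derivation ℤ R R :=
  have key : ∀ f : R[X], ev p π (derivative (s (ev p π f))) = ev p π (derivative f) := fun f => by
    rw [← sub_eq_zero, ← map_sub, ← map_sub]
    exact ev_derivative_eq_zero hπ (by rw [map_sub, hs, sub_self])
  Derivation.mk'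
    (AddMonoidHom.toIntLinearMap (AddMonoidHom.mk' (fun r => ev p π (derivative (s r))) fun a b => by
      conv_lhs => rw [← hs a, ← hs b, ← map_add, key, map_add, map_add]))
    fun a b => by
      show ev p π (derivative (s (a * b))) = a • ev p π (derivative (s b)) + b • ev p π (derivative (s a))
      conv_lhs => rw [← hs a, ← hs b, ← map_mul, key, derivative_mul, map_add, map_mul, map_mul, hs, hs]
      rw [smul_eq_mul, smul_eq_mul]
      ring

theorem der_apply (hπ : Irreducible π) (s : R → R[X]) (hs : ∀ r, ev p π (s r) = r) :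
    der p hπ s hs π = 1 := by
  show ev p π (derivative (s π)) = 1
  have h : ev p π (s π - X) = 0 := by rw [map_sub, hs]; simp [ev]
  have := ev_derivative_eq_zero hπ h
  rw [derivative_sub, map_sub, sub_eq_zero, derivative_X, map_one] at this
  exact this

theorem D_ev (f : R[X]) :
    KaehlerDifferential.D ℤ R (ev p π f) = ev p π (derivative f) • KaehlerDifferential.D ℤ R π := by
  induction f using Polynomial.induction_on' with
  | add f g hf hg => rw [map_add, map_add, hf, hg, derivative_add, map_add, add_smul]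
  | monomial n a =>
    simp only [ev, coe_eval₂RingHom, derivative_monomial, eval₂_monomial, frobenius_def, Derivation.leibniz,
      Derivation.leibniz_pow, ← Nat.cast_smul_eq_nsmul R, CharP.cast_eq_zero, zero_smul, smul_zero, add_zero,
      smul_smul, mul_pow, mul_zero, zero_mul]
    congr 1
    rw [show (n : R) ^ p = n from map_natCast (frobenius R p) n]
    ring

theorem bijective (hπ : Irreducible π) (hsurj : Function.Surjective (ev p π)) :
    Function.Bijective fun r : R => r • KaehlerDifferential.D ℤ R π := by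
  choose s hs using hsurj
  refine ⟨fun a b hab => ?_, fun w => ?_⟩
  · have := congrArg (der p hπ s hs).liftKaehlerDifferential hab
    simpa [Derivation.liftKaehlerDifferential_comp_D, der_apply] using this
  · have hw : w ∈ Submodule.span R (Set.range (KaehlerDifferential.D ℤ R)) := by
      rw [KaehlerDifferential.span_range_derivation]
      trivial
    induction hw using Submodule.span_induction with
    | mem x hx =>
      obtain ⟨r, rfl⟩ := hx
      exact ⟨ev p π (derivative (s r)), (D_ev (s r)).symm.trans (by rw [hs])⟩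
    | zero => exact ⟨0, zero_smul _ _⟩
    | add x y _ _ hx hy =>
      obtain ⟨a, rfl⟩ := hx
      obtain ⟨b, rfl⟩ := hy
      exact ⟨a + b, add_smul _ _ _⟩
    | smul c x _ hx =>
      obtain ⟨a, rfl⟩ := hx
      exact ⟨c * a, mul_smul _ _ _⟩

end GrothLib.DvrPBasis
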